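import Cfsg.Agent.H674.XZ.Base
import Cfsg.Agent.H443.XC.Defs
import Cfsg.Agent.H649.Transport

/-!
# S4791 + S4927: transport of `FV` and `Fam` along isomorphisms (helper614)
-/

set_option autoImplicit false

namespace Cfsg.Agent.H614.XZ

open Cfsg Cfsg.Agent.Characters Cfsg.Agent.Characters.Core Cfsg.Agent.H674.XZ Cfsg.Agent.H443.XC

universe u v

variable {p : ℕ} {M : Ideal AlgInt} {S : Type u} {T : Type v} [Group S] [Group T]

theorem ip_equiv [Finite S] [Finite T] (e : S ≃* T) (ψ χ : T → ℂ) : ip (fun s => ψ (e s)) (fun s => χ (e s)) = ip ψ χ := by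
  have := Fintype.ofFinite S
  have := Fintype.ofFinite T
  rw [ip_eq, ip_eq, classInner_def, classInner_def, Nat.card_congr e.toEquiv]
  congr 1
  exact Fintype.sum_equiv e.toEquiv _ _ fun s => rfl

theorem dd_congr (e : S ≃* T) : dd p S = dd p T := by
  unfold dd mp
  rw [Nat.card_congr e.toEquiv]

theorem mem_principalBlock_irrMap (e : S ≃* T) (χ : IrrCharacter S) :
    H649.irrMap e χ ∈ principalBlock M T ↔ χ ∈ principalBlock M S := by
  rw [← H649.blkMap_principalBlock e]
  exact H649.irrMap_mem_blkMap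

theorem mem0_irrMap (e : S ≃* T) (χ : IrrCharacter S) (h : Mem0 p M χ) : Mem0 p M (H649.irrMap e χ) := by
  refine ⟨(mem_principalBlock_irrMap e χ).2 h.1, ?_, ?_⟩
  · rw [H649.charDegree_irrMap]
    exact h.2.1
  · obtain ⟨n, h1, h2, h3⟩ := h.2.2
    exact ⟨n, h1, h2, fun t => h3 _⟩

theorem bsum_equiv [Finite S] [Finite T] (e : S ≃* T) (m : IrrCharacter T → ℤ) :
    bsum M (fun χ : IrrCharacter S => m (H649.irrMap e χ)) = bsum M m := by
  classical
  unfold bsum
  have h1 := finite_irr (G := S)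
  have h2 := finite_irr (G := T)
  let : Fintype (IrrCharacter S) := Fintype.ofFinite _
  let : Fintype (IrrCharacter T) := Fintype.ofFinite _
  refine Fintype.sum_equiv (H649.irrEquiv e) _ _ fun χ => ?_
  rw [H649.irrEquiv_apply, H649.charDegree_irrMap]
  by_cases h : χ ∈ principalBlock M S
  · rw [if_pos h, if_pos ((mem_principalBlock_irrMap e χ).2 h)]
  · rw [if_neg h, if_neg (fun h' => h ((mem_principalBlock_irrMap e χ).1 h'))]

theorem fv_equiv [Finite S] [Finite T] (e : S ≃* T) {ψ : T → ℂ} {c : ℤ} (h : FV p M ψ c) : FV p M (fun s => ψ (e s)) c := by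
  refine ⟨fun w hw g => ?_, ?_⟩
  · have hc : Nat.card S = Nat.card T := Nat.card_congr e.toEquiv
    have : NeZero (Nat.card S) := ⟨(Nat.card_pos (α := S)).ne'⟩
    have : NeZero (Nat.card T) := ⟨(Nat.card_pos (α := T)).ne'⟩
    have h1 : (ex w).Coprime (Nat.card T) := hc ▸ ex_coprime w
    let w' : (ZMod (Nat.card T))ˣ := ZMod.unitOfCoprime (ex w) h1
    have h2 : ex w' = ex w := by
      change ((ZMod.unitOfCoprime (ex w) h1 : (ZMod (Nat.card T))ˣ) : ZMod (Nat.card T)).val = ex w
      rw [ZMod.coe_unitOfCoprime, ZMod.val_natCast, Nat.mod_eq_of_lt]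
      rw [← hc]
      exact ZMod.val_lt _
    have h3 : w' ∈ JJ p T := by
      rw [mem_JJ, h2, ← dd_congr e]
      exact (mem_JJ w).1 hw
    have h4 := h.inv w' h3 (e g)
    rw [h2, ← map_pow] at h4
    exact h4
  · obtain ⟨m, h1, h2⟩ := h.int
    refine ⟨fun χ => m (H649.irrMap e χ), fun χ => ?_, ?_⟩
    · rw [← h1, ← ip_equiv e]
      congr 1
      funext s
      exact (H649.irrMap_apply' e χ s).symm
    · rw [bsum_equiv e m]
      exact h2

theorem prA_congr (e : S ≃* T) {α : MulAut S} (h : PrA p α) : PrA p (MulAut.congr e α) := by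
  obtain ⟨k, h1, s, h2⟩ := h
  refine ⟨k, h1, e s, ?_⟩
  rw [← map_pow, h2]
  apply MulEquiv.ext
  intro t
  change e (s * e.symm t * s⁻¹) = e s * t * (e s)⁻¹
  rw [map_mul, map_mul, map_inv, e.apply_symm_apply]

/-- **Transport of families.** -/
theorem fam_equiv [Finite S] [Finite T] (e : S ≃* T) {R : ℕ} (h : Fam p M T R) : Fam p M S R := by
  obtain ⟨ψ, c, h⟩ := h
  refine ⟨fun i s => ψ i (e s), c, fun i => ?_⟩
  obtain ⟨h1, h2, h3, h4, h5, h6⟩ := h i
  refine ⟨isCharacter_comp e.toMonoidHom h1, fun s => h2 _, fv_equiv e h3, h4, fun j hij => ?_, ?_⟩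
  · rw [ip_equiv]
    exact h5 j hij
  · intro θ hθ hne α hα s
    have h7 := h6 (H649.irrMap e θ) (mem0_irrMap e θ hθ) (by
      intro h0
      apply hne
      rw [← h0, ← ip_equiv e]
      congr 1
      funext s
      exact (H649.irrMap_apply' e θ s).symm) (MulAut.congr e α) (prA_congr e hα) (e s)
    rw [H649.irrMap_apply'] at h7
    rw [← h7]
    have h8 : (MulAut.congr e α) (e s) = e (α s) := by
      change e (α (e.symm (e s))) = e (α s)
      rw [e.symm_apply_apply]
    rw [h8, H649.irrMap_apply']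

end Cfsg.Agent.H614.XZ
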