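import Cfsg.Agent.H963.XZ.Bt

/-!
# S4791 + S4927, row `PSL_n`: hooks of length `e p` off one long row (helper614)

`stp e V β = ∑_i V (β - e e_i)` : one step of the Murnaghan-Nakayama rule with values modulo `p`.
* `stp_iterate_char` : `(stp e)^p = stp (e p)` modulo `p`;
* `stp_bt` : the value at `bt n s (m Q) k`;
* `BB_bt` : the result for an abstract recursion.
-/

set_option autoImplicit false

namespace Cfsg.Agent.H614.XZ

open Finset Cfsg.Agent.H614 Cfsg.Agent.H963.XZ

variable {n p : ℕ}

/-- the operator which lowers the entry `i` by `e` -/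
def xop (p : ℕ) {n : ℕ} (i : Fin n) (e : ℕ) : Module.End (ZMod p) ((Fin n → ℕ) → ZMod p) where
  toFun V β := if e ≤ β i then V (dn β i e) else 0
  map_add' V W := by
    funext β
    simp only [Pi.add_apply]
    split_ifs
    · rfl
    · rw [add_zero]
  map_smul' c V := by
    funext β
    simp only [Pi.smul_apply, RingHom.id_apply]
    split_ifs
    · rfl
    · rw [smul_zero]

theorem xop_apply (i : Fin n) (e : ℕ) (V : (Fin n → ℕ) → ZMod p) (β : Fin n → ℕ) :
    xop p i e V β = if e ≤ β i then V (dn β i e) else 0 := rfl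

theorem xop_zero (i : Fin n) : xop p i 0 = 1 := by
  apply LinearMap.ext
  intro V
  funext β
  rw [xop_apply, if_pos (Nat.zero_le _)]
  have h : dn β i 0 = β := by
    funext k
    by_cases hk : k = i
    · subst hk
      rw [dn_self, Nat.sub_zero]
    · rw [dn_ne _ _ hk]
  rw [h]
  rfl

theorem xop_mul (i : Fin n) (a b : ℕ) : xop p i a * xop p i b = xop p i (a + b) := by
  apply LinearMap.ext
  intro V
  funext β
  change xop p i a (xop p i b V) β = _
  rw [xop_apply, xop_apply, xop_apply, dn_self, dn_dn]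
  by_cases h1 : a ≤ β i
  · rw [if_pos h1]
    by_cases h2 : a + b ≤ β i
    · rw [if_pos h2, if_pos (by omega)]
    · rw [if_neg h2, if_neg (by omega)]
  · rw [if_neg h1, if_neg (by omega)]

theorem xop_pow (i : Fin n) (e m : ℕ) : xop p i e ^ m = xop p i (e * m) := by
  induction m with
  | zero => rw [pow_zero, mul_zero, xop_zero]
  | succ m ih => rw [pow_succ, ih, xop_mul, mul_add, mul_one]

theorem dn_dn_comm (β : Fin n → ℕ) {i j : Fin n} (h : i ≠ j) (a b : ℕ) :
    dn (dn β i a) j b = dn (dn β j b) i a := by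
  funext k
  by_cases hi : k = i
  · subst hi
    rw [dn_ne _ _ h, dn_self, dn_self, dn_ne _ _ h]
  · by_cases hj : k = j
    · subst hj
      rw [dn_self, dn_ne _ _ hi, dn_ne _ _ hi, dn_self]
    · rw [dn_ne _ _ hj, dn_ne _ _ hi, dn_ne _ _ hi, dn_ne _ _ hj]

theorem xop_commute (i j : Fin n) (a b : ℕ) : Commute (xop p i a) (xop p j b) := by
  by_cases hij : i = j
  · subst hij
    change xop p i a * xop p i b = xop p i b * xop p i a
    rw [xop_mul, xop_mul, add_comm]
  · apply LinearMap.ext
    intro V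
    funext β
    change xop p i a (xop p j b V) β = xop p j b (xop p i a V) β
    rw [xop_apply, xop_apply, xop_apply, xop_apply, dn_ne _ _ (Ne.symm hij), dn_ne _ _ hij, dn_dn_comm β hij]
    split_ifs <;> rfl

/-- the sum of the operators -/
def stp (p : ℕ) {n : ℕ} (e : ℕ) : Module.End (ZMod p) ((Fin n → ℕ) → ZMod p) := ∑ i : Fin n, xop p i e

theorem stp_apply (e : ℕ) (V : (Fin n → ℕ) → ZMod p) (β : Fin n → ℕ) :
    stp p e V β = ∑ i, if e ≤ β i then V (dn β i e) else 0 := by
  rw [stp, LinearMap.sum_apply, Finset.sum_apply]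
  rfl

theorem natCast_end : ((p : ℕ) : Module.End (ZMod p) ((Fin n → ℕ) → ZMod p)) = 0 := by
  apply LinearMap.ext
  intro V
  funext β
  rw [Module.End.natCast_apply]
  rw [Pi.smul_apply, nsmul_eq_mul, CharP.cast_eq_zero, zero_mul]
  rfl

theorem sum_pow_p [hp : Fact p.Prime] (s : Finset (Fin n)) (e : ℕ) :
    (∑ i ∈ s, xop p i e) ^ p = ∑ i ∈ s, xop p i (e * p) := by
  classical
  induction s using Finset.induction_on with
  | empty => rw [Finset.sum_empty, Finset.sum_empty, zero_pow hp.out.ne_zero]
  | insert i s hi ih =>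
    rw [Finset.sum_insert hi, Finset.sum_insert hi, Commute.add_pow_prime_eq hp.out, ih, xop_pow, natCast_end, zero_mul, zero_mul,
      zero_mul, add_zero]
    exact Commute.sum_right _ _ _ fun j _ => xop_commute i j e e

theorem stp_pow_char [hp : Fact p.Prime] (e : ℕ) : (stp p e : Module.End (ZMod p) ((Fin n → ℕ) → ZMod p)) ^ p = stp p (e * p) :=
  sum_pow_p univ e

theorem stp_alt (e : ℕ) {V : (Fin n → ℕ) → ZMod p} (hV : Alt V) : Alt (stp p e V) := by
  intro σ β
  rw [stp_apply, stp_apply, Finset.smul_sum, ← Equiv.sum_comp σ (fun i => sg σ • if e ≤ β i then V (dn β i e) else 0)]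
  refine Finset.sum_congr rfl fun i _ => ?_
  rw [Function.comp_apply, dn_comp, hV]
  split_ifs
  · rfl
  · rw [smul_zero]

theorem pow_stp_alt (e m : ℕ) {V : (Fin n → ℕ) → ZMod p} (hV : Alt V) : Alt ((stp p e ^ m) V) := by
  induction m with
  | zero => exact hV
  | succ m ih =>
    rw [pow_succ']
    exact stp_alt e ih

theorem two_zmod [hp : Fact p.Prime] (h2 : p ≠ 2) (w : ZMod p) (h : w + w = 0) : w = 0 := by
  have h1 : (2 : ZMod p) * w = 0 := by rw [two_mul, h]
  refine (mul_eq_zero.1 h1).resolve_left fun h3 => ?_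
  have h4 : ((2 : ℕ) : ZMod p) = 0 := by exact_mod_cast h3
  rw [ZMod.natCast_eq_zero_iff] at h4
  exact h2 ((Nat.prime_dvd_prime_iff_eq hp.out Nat.prime_two).1 h4)

/-- the row -/
theorem stp_kp [hp : Fact p.Prime] (h2 : p ≠ 2) (hn : 0 < n) {e : ℕ} (he : 0 < e) {V : (Fin n → ℕ) → ZMod p} (hV : Alt V)
    (r s : ℕ) : (stp p e ^ r) V (kp n (e * r + s)) = V (kp n s) := by
  induction r with
  | zero => rw [mul_zero, zero_add]; rfl
  | succ r ih =>
    rw [pow_succ']
    change stp p e ((stp p e ^ r) V) _ = _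
    rw [stp_apply, Finset.sum_eq_single (⟨n - 1, by omega⟩ : Fin n)]
    · have h1 : kp n (e * (r + 1) + s) ⟨n - 1, by omega⟩ = (e * (r + 1) + s) + (n - 1) :=
        kp_last _ (by change n - 1 + 1 = n; omega)
      rw [if_pos (by rw [h1, mul_add]; omega), ← ih]
      refine congrArg ((stp p e ^ r) V) ?_
      funext i
      by_cases hi : i = ⟨n - 1, by omega⟩
      · subst hi
        rw [dn_self, h1, kp_last _ (by change n - 1 + 1 = n; omega), mul_add]
        change _ = _ + (n - 1)
        omega
      · have hi' : (i : ℕ) + 1 ≠ n := by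
          intro h
          apply hi
          apply Fin.ext
          change (i : ℕ) = n - 1
          omega
        rw [dn_ne _ _ hi, kp_lt i hi', kp_lt i hi']
    · intro i _ hi
      have hi' : (i : ℕ) + 1 ≠ n := by
        intro h
        apply hi
        apply Fin.ext
        change (i : ℕ) = n - 1
        omega
      split_ifs with h1
      · apply (pow_stp_alt e r hV).eq_zero_of_not_injective (two_zmod h2)
        intro hinj
        rw [kp_lt i hi'] at h1
        have hi2 := i.2
        let i' : Fin n := ⟨i - e, by omega⟩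
        have hne : i' ≠ i := by
          intro h
          have := congrArg Fin.val h
          change (i : ℕ) - e = i at this
          omega
        apply hne
        apply hinj
        rw [dn_self, dn_ne _ _ hne, kp_lt i hi', kp_lt i' (by change (i : ℕ) - e + 1 ≠ n; omega)]
      · rfl
    · intro h
      exact absurd (mem_univ _) h

/-- all hooks of length `Q` come off the long one -/
theorem stp_bt [hp : Fact p.Prime] (h2 : p ≠ 2) {s Q k : ℕ} (hs : s < Q) (hk : k < Q) (hQn : Q ≤ n) (hsk : s + k ≠ Q) (h : k < n)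
    {V : (Fin n → ℕ) → ZMod p} (hV : Alt V) (m : ℕ) :
    (stp p Q ^ m) V (bt n s (m * Q) k h) = V (kp n s) := by
  induction m with
  | zero =>
    change V _ = _
    congr 1
    funext i
    by_cases hi : i = jx n k h
    · subst hi
      rw [bt_self, zero_mul, add_zero]
    · rw [bt_ne _ _ _ _ _ hi]
  | succ m ih =>
    rw [pow_succ']
    change stp p Q ((stp p Q ^ m) V) _ = _
    rw [stp_apply, Finset.sum_eq_single (jx n k h)]
    · rw [if_pos (by rw [bt_self, add_mul]; omega), ← ih]
      refine congrArg ((stp p Q ^ m) V) ?_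
      funext i
      by_cases hi : i = jx n k h
      · subst hi
        rw [dn_self, bt_self, bt_self, add_mul]
        omega
      · rw [dn_ne _ _ hi, bt_ne _ _ _ _ _ hi, bt_ne _ _ _ _ _ hi]
    · intro i _ hi
      split_ifs with h1
      · apply (pow_stp_alt Q m hV).eq_zero_of_not_injective (two_zmod h2)
        intro hinj
        rw [bt_ne _ _ _ _ _ hi] at h1
        have hi2 := i.2
        have hj : (i : ℕ) ≠ n - 1 - k := fun h' => hi (Fin.ext h')
        obtain ⟨i', h2, h3, h4⟩ : ∃ i' : Fin n, i' ≠ i ∧ i' ≠ jx n k h ∧ kp n s i' = kp n s i - Q := by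
          by_cases hl : (i : ℕ) + 1 = n
          · rw [kp_last i hl] at h1 ⊢
            refine ⟨⟨s + i - Q, by omega⟩, ?_, ?_, ?_⟩
            · intro h'
              have := congrArg Fin.val h'
              change s + (i : ℕ) - Q = i at this
              omega
            · intro h'
              have := congrArg Fin.val h'
              change s + (i : ℕ) - Q = n - 1 - k at this
              omega
            · rw [kp_lt]
              change s + (i : ℕ) - Q + 1 ≠ n
              omega
          · rw [kp_lt i hl] at h1 ⊢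
            refine ⟨⟨i - Q, by omega⟩, ?_, ?_, ?_⟩
            · intro h'
              have := congrArg Fin.val h'
              change (i : ℕ) - Q = i at this
              omega
            · intro h'
              have := congrArg Fin.val h'
              change (i : ℕ) - Q = n - 1 - k at this
              omega
            · rw [kp_lt]
              change (i : ℕ) - Q + 1 ≠ n
              omega
        apply h2
        apply hinj
        rw [dn_self, dn_ne _ _ h2, bt_ne _ _ _ _ _ h3, bt_ne _ _ _ _ _ hi, h4]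
      · rfl
    · intro h'
      exact absurd (mem_univ _) h'

/-- the abstract recursion -/
theorem cast_BB {e : ℕ} (BB : ℕ → (Fin n → ℕ) → ℤ)
    (hB : ∀ j β, BB (j + 1) β = ∑ i, if e ≤ β i then BB j (dn β i e) else 0) (j : ℕ) (β : Fin n → ℕ) :
    ((BB j β : ℤ) : ZMod p) = (stp p e ^ j) (fun γ => ((BB 0 γ : ℤ) : ZMod p)) β := by
  induction j generalizing β with
  | zero => rfl
  | succ j ih =>
    rw [pow_succ']
    change _ = stp p e ((stp p e ^ j) _) β
    rw [hB, stp_apply, Int.cast_sum]
    refine Finset.sum_congr rfl fun i _ => ?_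
    split_ifs
    · exact ih _
    · exact Int.cast_zero

theorem alt_cast {V : (Fin n → ℕ) → ℤ} (hV : Alt V) : Alt (fun γ => ((V γ : ℤ) : ZMod p)) := by
  intro σ β
  change ((V (β ∘ σ) : ℤ) : ZMod p) = sg σ • ((V β : ℤ) : ZMod p)
  rw [hV σ β, smul_eq_mul, Int.cast_mul, zsmul_eq_mul]

/-- **the values at the labels `bt`** -/
theorem BB_bt [hp : Fact p.Prime] (h2 : p ≠ 2) {e w s0 k : ℕ} (hs0 : s0 < e) (hn : n = e * w + s0) (hQn : e * p ≤ n)
    (BB : ℕ → (Fin n → ℕ) → ℤ) (h0 : Alt (BB 0)) (h1 : BB 0 (kp n s0) = 1)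
    (hB : ∀ j β, BB (j + 1) β = ∑ i, if e ≤ β i then BB j (dn β i e) else 0)
    (hk : k < e * p) (hsk : n % (e * p) + k ≠ e * p) (h : k < n) :
    ((BB w (bt n (n % (e * p)) (n - n % (e * p)) k h) : ℤ) : ZMod p) = 1 := by
  have he : 0 < e := by omega
  have hpp := hp.out.pos
  have hQ : 0 < e * p := Nat.mul_pos he hpp
  have h3 := Nat.div_add_mod n (e * p)
  have h4 := Nat.mod_lt n hQ
  obtain ⟨r, hr⟩ : ∃ r, w = p * (n / (e * p)) + r := by
    refine ⟨w - p * (n / (e * p)), ?_⟩
    have h5 : e * (p * (n / (e * p))) < e * (w + 1) := by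
      rw [← mul_assoc, mul_add, mul_one]
      omega
    have h6 := Nat.lt_of_mul_lt_mul_left h5
    omega
  have h7 : n % (e * p) = e * r + s0 := by
    have h8 : e * w = e * p * (n / (e * p)) + e * r := by
      rw [hr]
      ring_nf
    omega
  have h9 : n - n % (e * p) = n / (e * p) * (e * p) := by
    rw [mul_comm (n / (e * p))]
    omega
  rw [h9, cast_BB BB hB]
  have h10 : (stp p e : Module.End (ZMod p) ((Fin n → ℕ) → ZMod p)) ^ w = stp p (e * p) ^ (n / (e * p)) * stp p e ^ r := by
    conv_lhs => rw [hr]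
    rw [pow_add, pow_mul, stp_pow_char]
  rw [h10]
  change (stp p (e * p) ^ (n / (e * p))) ((stp p e ^ r) _) _ = 1
  rw [stp_bt h2 h4 hk hQn hsk h (pow_stp_alt e r (alt_cast h0)), h7, stp_kp h2 (by omega) he (alt_cast h0), h1, Int.cast_one]

/-- the labels are injective -/
theorem bt_inj {s Q N k : ℕ} (hn : n = s + N) (hs : s < Q) (hN : Q ∣ N) (hN0 : 0 < N) (hk : k < Q) (hsk : s + k ≠ Q)
    (h : k < n) : Function.Injective (bt n s N k h) := by
  obtain ⟨m, rfl⟩ := hN
  have hm : m = 1 ∨ 2 ≤ m := by
    rcases Nat.eq_zero_or_pos m with h0 | h0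
    · rw [h0, mul_zero] at hN0
      omega
    · omega
  have hNQ : Q ≤ Q * m ∧ (Q * m = Q ∨ 2 * Q ≤ Q * m) := by
    rcases hm with hm | hm
    · subst hm
      rw [mul_one]
      exact ⟨le_refl _, Or.inl rfl⟩
    · have h1 : Q * 2 ≤ Q * m := Nat.mul_le_mul_left _ hm
      omega
  obtain ⟨N, hNN⟩ : ∃ N, N = Q * m := ⟨_, rfl⟩
  rw [← hNN] at hNQ hn ⊢
  have h0 : ∀ i : Fin n, i ≠ jx n k h → kp n s i ≠ kp n s (jx n k h) + N := by
    intro i hi he
    have hi2 := i.2
    have hi3 : (i : ℕ) ≠ n - 1 - k := fun h => hi (Fin.ext h)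
    unfold kp at he
    rw [jx_val] at he
    split_ifs at he <;> omega
  intro a b hab
  by_cases ha : a = jx n k h
  · by_cases hb : b = jx n k h
    · rw [ha, hb]
    · rw [ha, bt_self, bt_ne _ _ _ _ _ hb] at hab
      exact absurd hab.symm (h0 b hb)
  · by_cases hb : b = jx n k h
    · rw [hb, bt_self, bt_ne _ _ _ _ _ ha] at hab
      exact absurd hab (h0 a ha)
    · rw [bt_ne _ _ _ _ _ ha, bt_ne _ _ _ _ _ hb] at hab
      exact kp_injective _ _ hab

end Cfsg.Agent.H614.XZ
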