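import Cfsg.Agent.H614.XZ.FamL
import Cfsg.Agent.H614.XZ.Stp
import Cfsg.Agent.H45.XL.Defs

/-!
# S4791 + S4927, row `PSL_n`, `e p ≤ n`: the labels (helper614)

* `Dp_bt` : `(Dp e)^[w] A = 1` at the labels `bt n (n % Q) (n - n % Q) k`, `Q = e p`, for every tail `A`;
* `fam_of_FV_label` : the family of `Q - 1` characters, given the values of `F` at the labels.
-/

set_option autoImplicit false

namespace Cfsg.Agent.H614.XZ

open scoped MatrixGroups
open Matrix Finset Cfsg Cfsg.Agent.H583.BR Cfsg.Agent.H674.XZ Cfsg.Agent.H443.XC Cfsg.Agent.H963.XZ Cfsg.Agent.H45.XL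

universe u v

variable {n p : ℕ}

theorem stp_eq (e : ℕ) (V : (Fin n → ℕ) → ZMod p) : stp p e V = Dp e V := funext fun β => stp_apply e V β

theorem pow_stp_eq (e w : ℕ) (V : (Fin n → ℕ) → ZMod p) : (stp p e ^ w) V = (Dp e)^[w] V := by
  rw [Module.End.pow_apply]
  congr 1
  funext V
  exact stp_eq e V

/-- **the values at the labels `bt`** -/
theorem Dp_bt [hp : Fact p.Prime] (h2 : p ≠ 2) {e w s0 k : ℕ} (hs0 : s0 < e) (hn : n = e * w + s0) (hQn : e * p ≤ n)
    {A : (Fin n → ℕ) → ZMod p} (h0 : Alt A) (h1 : A (kp n s0) = 1)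
    (hk : k < e * p) (hsk : n % (e * p) + k ≠ e * p) (h : k < n) :
    (Dp e)^[w] A (bt n (n % (e * p)) (n - n % (e * p)) k h) = 1 := by
  have he : 0 < e := by omega
  have hpp := hp.out.pos
  have hQ : 0 < e * p := Nat.mul_pos he hpp
  have h3 := Nat.div_add_mod n (e * p)
  have h4 := Nat.mod_lt n hQ
  obtain ⟨r, hr⟩ : ∃ r, w = p * (n / (e * p)) + r := by
    refine ⟨w - p * (n / (e * p)), ?_⟩
    have h5 : e * (p * (n / (e * p))) < e * (w + 1) := by
      rw [← mul_assoc, mul_add, mul_one]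
      omega
    have h6 := Nat.lt_of_mul_lt_mul_left h5
    omega
  have h7 : n % (e * p) = e * r + s0 := by
    have h8 : e * w = e * p * (n / (e * p)) + e * r := by
      rw [hr]
      ring_nf
    omega
  have h9 : n - n % (e * p) = n / (e * p) * (e * p) := by
    rw [mul_comm (n / (e * p))]
    omega
  rw [h9, ← pow_stp_eq]
  have h10 : (stp p e : Module.End (ZMod p) ((Fin n → ℕ) → ZMod p)) ^ w = stp p (e * p) ^ (n / (e * p)) * stp p e ^ r := by
    conv_lhs => rw [hr]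
    rw [pow_add, pow_mul, stp_pow_char]
  rw [h10]
  change (stp p (e * p) ^ (n / (e * p))) ((stp p e ^ r) A) _ = 1
  rw [stp_bt h2 h4 hk hQn hsk h (pow_stp_alt e r h0), h7, stp_kp h2 (by omega) he h0, h1]

/-- **The family.** -/
theorem fam_of_FV_label [hp : Fact p.Prime] (h11 : 11 ≤ p) {M : Ideal AlgInt} {S : Type u} [Group S] [Finite S] {F : Type v}
    [Field F] [Fintype F] {e w s : ℕ} (hs : s < e) (hn : n = e * w + s) (hQn : e * p ≤ n)
    (iso : S ≃* Matrix.ProjectiveSpecialLinearGroup (Fin n) F)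
    (hFV : ∀ (β : Fin n → ℕ) (hβ : ∑ i, β i = n + ∑ i : Fin n, (i : ℕ)) (c : ℤ),
      (∀ A, Tail p n s A → (Dp e)^[w] A β = (c : ZMod p)) →
      Cfsg.Agent.H674.XZ.FV p M (fun g : Matrix.ProjectiveSpecialLinearGroup (Fin n) F => ((T (flg n F) (cc β hβ) g : ℤ) : ℂ)) c) :
    Fam p M S (e * p - 1) := by
  have he : 0 < e := by omega
  have hpp := hp.out.pos
  have hQ : 0 < e * p := Nat.mul_pos he hpp
  have hQp : p ≤ e * p := Nat.le_mul_of_pos_left p he
  have h4 := Nat.mod_lt n hQ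
  have h5 := Nat.mod_le n (e * p)
  have h6 : e * p ∣ n - n % (e * p) := Nat.dvd_sub_mod n
  have h7 : 0 < n - n % (e * p) := by omega
  let kk : Fin (e * p - 1) → ℕ := fun i => if (i : ℕ) < e * p - n % (e * p) then i else i + 1
  have hkk : ∀ i, kk i < e * p ∧ n % (e * p) + kk i ≠ e * p := by
    intro i
    have hi := i.2
    have hk : kk i = if (i : ℕ) < e * p - n % (e * p) then (i : ℕ) else i + 1 := rfl
    rw [hk]
    split_ifs <;> omega
  have hkn : ∀ i, kk i < n := fun i => lt_of_lt_of_le (hkk i).1 hQn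
  have hinj : ∀ i j, i ≠ j → kk i ≠ kk j := by
    intro i j hij h
    apply hij
    apply Fin.ext
    have hki : kk i = if (i : ℕ) < e * p - n % (e * p) then (i : ℕ) else i + 1 := rfl
    have hkj : kk j = if (j : ℕ) < e * p - n % (e * p) then (j : ℕ) else j + 1 := rfl
    rw [hki, hkj] at h
    split_ifs at h <;> omega
  refine fam_of_labels (by omega) iso (fun i => bt n (n % (e * p)) (n - n % (e * p)) (kk i) (hkn i)) (fun i => ?_)
    (fun i => bt_inj (by omega) h4 h6 h7 (hkk i).1 (hkk i).2 (hkn i)) (fun i j hij => range_bt_ne h7 _ _ (hinj i j hij))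
    (fun _ => 1) (fun _ => ?_) (fun i => ?_)
  · rw [sum_bt]
    omega
  · intro h8
    have h9 := Int.le_of_dvd one_pos h8
    omega
  · refine hFV _ _ 1 fun A hA => ?_
    rw [Dp_bt (by omega) hs hn hQn hA.alt hA.row (hkk i).1 (hkk i).2 (hkn i), Int.cast_one]

theorem count_big (h11 : 11 ≤ p) {e : ℕ} (he : 0 < e) : 4 * (p - 1) < (e * p - 1) ^ 2 := by
  obtain ⟨m, rfl⟩ : ∃ m, p = m + 11 := ⟨p - 11, by omega⟩
  have h1 : m + 11 ≤ e * (m + 11) := Nat.le_mul_of_pos_left _ he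
  obtain ⟨r, hr⟩ : ∃ r, e * (m + 11) - 1 = m + 10 + r := ⟨e * (m + 11) - 1 - (m + 10), by omega⟩
  rw [hr]
  have h2 : m + 11 - 1 = m + 10 := by omega
  rw [h2]
  nlinarith

end Cfsg.Agent.H614.XZ
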