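import Cfsg.Agent.H614.XZ.Inv
import Cfsg.Agent.H614.XZ.Tr
import Cfsg.Agent.H963.XZ.Bt

/-!
# S4791 + S4927, row `PSL_n`: families from labels (helper614)

`fam_of_labels` : labels `β k` with different ranges and `F (X_(β k)) = c k` prime to `p` give a family.
-/

set_option autoImplicit false

namespace Cfsg.Agent.H614.XZ

open scoped MatrixGroups
open Matrix Finset Cfsg Cfsg.Agent.H583.BR Cfsg.Agent.Characters Cfsg.Agent.Characters.Core Cfsg.Agent.H674.XZ Cfsg.Agent.H443.XC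
open Cfsg.Agent.H963.XZ (pair_eq_zero_of_range)

universe u v

variable {n : ℕ}

theorem pair_self {β : Fin n → ℕ} (h : Function.Injective β) : pair β β = 1 := by
  unfold pair
  rw [Finset.sum_eq_single 1]
  · simp
  · intro σ _ hσ
    rw [if_neg]
    intro h1
    apply hσ
    apply Equiv.ext
    intro i
    exact (h (congrFun h1 i)).symm
  · intro h1
    exact absurd (mem_univ _) h1

theorem classInner_label {G : Type u} [Group G] [Fintype G] {Q : (Fin n → ℕ) → Subgroup G} (hQ : YoungType Q)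
    {β γ : Fin n → ℕ} (hβ : ∑ i, β i = n + ∑ i : Fin n, (i : ℕ)) (hγ : ∑ i, γ i = n + ∑ i : Fin n, (i : ℕ)) :
    classInner (fun g => ((T Q (cc β hβ) g : ℤ) : ℂ)) (fun g => ((T Q (cc γ hγ) g : ℤ) : ℂ)) = (pair β γ : ℂ) := by
  rw [classInner_T_eq hQ youngType_young]
  have h1 : (fun g => ((T (fun a : Fin n → ℕ => youngSubgroup a) (cc β hβ) g : ℤ) : ℂ)) = ch (Fin n) β :=
    funext fun g => T_cc β hβ g
  have h2 : (fun g => ((T (fun a : Fin n → ℕ => youngSubgroup a) (cc γ hγ) g : ℤ) : ℂ)) = ch (Fin n) γ :=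
    funext fun g => T_cc γ hγ g
  rw [h1, h2, classInner_ch (by rw [Fintype.card_fin]; exact hβ)]

/-- the sign which makes the label an irreducible character -/
theorem exists_sign {G : Type u} [Group G] [Fintype G] {Q : (Fin n → ℕ) → Subgroup G} (hQ : YoungType Q)
    {β : Fin n → ℕ} (hβ : ∑ i, β i = n + ∑ i : Fin n, (i : ℕ)) (hi : Function.Injective β) :
    ∃ ε : ℤ, (ε = 1 ∨ ε = -1) ∧ IsIrrCharacter G (ε • fun g => ((T Q (cc β hβ) g : ℤ) : ℂ)) := by
  have h1 := classInner_label hQ hβ hβ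
  rw [pair_self hi, Int.cast_one] at h1
  rcases isIrr_of_generalized (isGen_T (Q := Q) (cc β hβ)) h1 with h | h
  · exact ⟨1, Or.inl rfl, by rwa [one_smul]⟩
  · exact ⟨-1, Or.inr rfl, by rwa [neg_one_smul]⟩

/-- **Families from labels.** -/
theorem fam_of_labels {p : ℕ} {M : Ideal AlgInt} {S : Type u} [Group S] [Finite S] {F : Type v} [Field F] [Fintype F]
    (hn : 2 ≤ n) (e : S ≃* Matrix.ProjectiveSpecialLinearGroup (Fin n) F) {R : ℕ} (β : Fin R → Fin n → ℕ)
    (hβ : ∀ k, ∑ i, β k i = n + ∑ i : Fin n, (i : ℕ)) (hinj : ∀ k, Function.Injective (β k))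
    (hne : ∀ k l, k ≠ l → Set.range (β k) ≠ Set.range (β l)) (c : Fin R → ℤ) (hc : ∀ k, ¬ (p : ℤ) ∣ c k)
    (hF : ∀ k, Cfsg.Agent.H674.XZ.FV p M (fun g : Matrix.ProjectiveSpecialLinearGroup (Fin n) F => ((T (flg n F) (cc (β k) (hβ k)) g : ℤ) : ℂ)) (c k)) :
    Fam p M S R := by
  classical
  have : Finite (Matrix.ProjectiveSpecialLinearGroup (Fin n) F) := Finite.of_equiv _ e.toEquiv
  have := Fintype.ofFinite (Matrix.ProjectiveSpecialLinearGroup (Fin n) F)
  refine fam_equiv e ?_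
  have hQ : YoungType (flg n F) := youngType_flg (by omega)
  choose ε hε hirr using fun k => exists_sign hQ (hβ k) (hinj k)
  refine ⟨fun k => ε k • fun g => ((T (flg n F) (cc (β k) (hβ k)) g : ℤ) : ℂ), fun k => ε k * c k, fun k => ?_⟩
  refine ⟨isIrr_isCharacter (hirr k), fun s => ⟨ε k * T (flg n F) (cc (β k) (hβ k)) s, ?_⟩, (hF k).zsmul (ε k), ?_, ?_, ?_⟩
  · change (ε k • fun g => ((T (flg n F) (cc (β k) (hβ k)) g : ℤ) : ℂ)) s = _
    rw [Pi.smul_apply, zsmul_eq_mul, Int.cast_mul]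
  · change ¬ (p : ℤ) ∣ ε k * c k
    rcases hε k with h | h
    · rw [h, one_mul]
      exact hc k
    · rw [h, neg_one_mul, dvd_neg]
      exact hc k
  · intro l hkl
    change ip (ε k • fun g => ((T (flg n F) (cc (β k) (hβ k)) g : ℤ) : ℂ)) (ε l • fun g => ((T (flg n F) (cc (β l) (hβ l)) g : ℤ) : ℂ)) = 0
    rw [ip_zsmul, ip_eq, ← Int.cast_smul_eq_zsmul ℂ, classInner_smul_right, classInner_label hQ, pair_eq_zero_of_range (hne k l hkl),
      Int.cast_zero, mul_zero, mul_zero]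
  · intro θ _ h0 α _ s
    have h1 : (ε k • fun g => ((T (flg n F) (cc (β k) (hβ k)) g : ℤ) : ℂ)) = (θ : _ → ℂ) := by
      by_contra h2
      apply h0
      change ip (ε k • fun g => ((T (flg n F) (cc (β k) (hβ k)) g : ℤ) : ℂ)) (θ : _ → ℂ) = 0
      rw [ip_eq]
      exact classInner_irr_ne (hirr k) θ.2 h2
    rw [← h1, Pi.smul_apply, Pi.smul_apply, T_aut hn]

end Cfsg.Agent.H614.XZ
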