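import Cfsg.Agent.H583.BR.Flag
import Cfsg.Agent.H199.PslAut

/-!
# S4791 + S4927, row `PSL_n`: the flag characters with label `β` are invariant under automorphisms (helper614)

* `fz_equiv` : transport of permutation characters;
* `compLabel_rev` : the labelling of the reversed composition;
* `T_aut` : `T (flg n F) (cc β hs) (α x) = T (flg n F) (cc β hs) x` for every automorphism `α` of `PSL_n(F)`.
-/

set_option autoImplicit false
set_option linter.unusedSectionVars false

namespace Cfsg.Agent.H614.XZ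

open scoped MatrixGroups
open Matrix Finset Cfsg Cfsg.Agent.H583.BR Cfsg.Agent.H199.PslAut
open Cfsg.Agent.H139.Bruhat Cfsg.Agent.H139.BlockCount Cfsg.Agent.H139.FlagInner
open Cfsg.Agent.ClassicalGeometry.AutPSL.Root Cfsg.Agent.ClassicalGeometry.AutPSL.Auto

universe u v

theorem fz_equiv {G : Type u} {G' : Type v} [Group G] [Group G'] (α : G ≃* G') (H : Subgroup G') (K : Subgroup G)
    (h : ∀ x, α x ∈ H ↔ x ∈ K) (x : G) : fz H (α x) = fz K x := by
  let f : G ⧸ K ≃ G' ⧸ H := Quotient.congr α.toEquiv (by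
    intro a b
    rw [QuotientGroup.leftRel_apply]
    change _ ↔ QuotientGroup.leftRel H (α a) (α b)
    rw [QuotientGroup.leftRel_apply, ← map_inv, ← map_mul, h])
  have hf : ∀ y : G, f (QuotientGroup.mk y) = QuotientGroup.mk (α y) := fun y => rfl
  rw [fz, fz]
  congr 1
  symm
  refine Nat.card_congr (f.subtypeEquiv ?_)
  intro z
  induction z using QuotientGroup.induction_on with
  | H y =>
    rw [MulAction.mem_fixedBy, MulAction.mem_fixedBy, hf]
    change (QuotientGroup.mk (x * y) : G ⧸ K) = QuotientGroup.mk y ↔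
      (QuotientGroup.mk (α x * α y) : G' ⧸ H) = QuotientGroup.mk (α y)
    rw [QuotientGroup.eq, QuotientGroup.eq, ← map_mul, ← map_inv, ← map_mul, h]

theorem fz_conj {G : Type u} [Group G] (H : Subgroup G) (s x : G) : fz H (s * x * s⁻¹) = fz H x := by
  rw [fz, fz]
  congr 1
  refine Nat.card_congr ((MulAction.toPerm s⁻¹ : Equiv.Perm (G ⧸ H)).subtypeEquiv ?_)
  intro z
  rw [MulAction.mem_fixedBy, MulAction.mem_fixedBy]
  change _ ↔ x • (s⁻¹ • z) = s⁻¹ • z
  rw [mul_smul, mul_smul]
  constructor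
  · intro h
    exact (inv_smul_eq_iff.2 h.symm).symm
  · intro h
    rw [h, smul_inv_smul]

variable {n : ℕ}

/-- the reversed composition -/
theorem psum_rev (a : Fin n → ℕ) {k : ℕ} (hk : k ≤ n) :
    psum (fun i => a (Fin.rev i)) k + psum a (n - k) = ∑ i, a i := by
  rw [psum, psum, ← Finset.sum_filter_add_sum_filter_not univ (fun j : Fin n => j.val < n - k) a, add_comm]
  congr 1
  refine Finset.sum_bij (fun i _ => Fin.rev i) ?_ ?_ ?_ ?_
  · intro i hi
    simp only [Finset.mem_filter, Finset.mem_univ, true_and, Fin.val_rev] at hi ⊢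
    omega
  · intro i _ j _ h
    exact Fin.rev_injective h
  · intro i hi
    refine ⟨Fin.rev i, ?_, Fin.rev_rev i⟩
    simp only [Finset.mem_filter, Finset.mem_univ, true_and, Fin.val_rev] at hi ⊢
    have := i.2
    omega
  · intro i _
    rfl

theorem sum_rev (a : Fin n → ℕ) : ∑ i, a (Fin.rev i) = ∑ i, a i :=
  Equiv.sum_comp Fin.revPerm a

theorem compLabel_rev (a : Fin n → ℕ) (ha : ∑ i, a i = n) (i : Fin n) :
    compLabel (fun i => a (Fin.rev i)) i + compLabel a (Fin.rev i) + 1 = n := by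
  have h1 := compLabel_lt a ha (Fin.rev i)
  have h2 := compLabel_lt (fun i => a (Fin.rev i)) (by rw [sum_rev, ha]) i
  have h3 : psum a n = n := by rw [psum_last, ha]
  have h4 : psum (fun i => a (Fin.rev i)) n = n := by rw [psum_last, sum_rev, ha]
  have key : ∀ k ≤ n, compLabel (fun i => a (Fin.rev i)) i < k ↔ n < k + compLabel a (Fin.rev i) + 1 := by
    intro k hk
    rw [compLabel_lt_iff _ i hk h4]
    have h5 := psum_rev a hk
    rw [ha] at h5
    have h6 := compLabel_lt_iff a (Fin.rev i) (Nat.sub_le n k) h3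
    rw [Fin.val_rev] at h6
    have h7 := i.2
    constructor
    · intro h8
      by_contra h9
      have h10 := h6.1 (by omega)
      omega
    · intro h8
      by_contra h9
      have h10 := h6.2 (by omega)
      omega
  have h5 := key (n - compLabel a (Fin.rev i)) (Nat.sub_le _ _)
  have h6 := key (n - compLabel a (Fin.rev i) - 1) (by omega)
  omega

variable {F : Type*} [Field F]

theorem mem_slp (a : Fin n → ℕ) (s : SpecialLinearGroup (Fin n) F) :
    s ∈ slp n F a ↔ ∀ i j, compLabel a j < compLabel a i → (s : Matrix (Fin n) (Fin n) F) i j = 0 := Iff.rfl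

theorem phi_mem (σ : F ≃+* F) (a : Fin n → ℕ) (x : ProjectiveSpecialLinearGroup (Fin n) F) :
    phi n F σ x ∈ flg n F a ↔ x ∈ flg n F a := by
  obtain ⟨s, rfl⟩ := pr_surjective x
  rw [phi_pr, mem_flg, mem_flg, mem_slp, mem_slp]
  refine forall_congr' fun i => forall_congr' fun j => forall_congr' fun h => ?_
  rw [coe_fld_apply]
  exact map_eq_zero_iff σ σ.injective

theorem Psi_dg_mem (d : Fin n → Fˣ) (a : Fin n → ℕ) (x : ProjectiveSpecialLinearGroup (Fin n) F) :
    Psi n F (dg d) x ∈ flg n F a ↔ x ∈ flg n F a := by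
  obtain ⟨s, rfl⟩ := pr_surjective x
  rw [Psi_pr, mem_flg, mem_flg]
  have h1 : SpecialLinearGroup.toGL (cj (dg d) s) = dg d * SpecialLinearGroup.toGL s * (dg d)⁻¹ := by
    apply Units.ext
    rw [Units.val_mul, Units.val_mul]
    rfl
  change SpecialLinearGroup.toGL (cj (dg d) s) ∈ parabolicGL n F a ↔ SpecialLinearGroup.toGL s ∈ parabolicGL n F a
  rw [h1, Subgroup.mul_mem_cancel_right _ (Subgroup.inv_mem _ (dg_mem a d)), Subgroup.mul_mem_cancel_left _ (dg_mem a d)]

theorem Psi_fz (hn : 0 < n) (g : GL (Fin n) F) (a : Fin n → ℕ) (x : ProjectiveSpecialLinearGroup (Fin n) F) :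
    fz (flg n F a) (Psi n F g x) = fz (flg n F a) x := by
  obtain ⟨d, hd⟩ := exists_prod_eq (F := F) hn (GeneralLinearGroup.det g)
  obtain ⟨s, hs⟩ := exists_toGL (g := g * (dg d)⁻¹) (by rw [map_mul, map_inv, det_dg, hd, mul_inv_cancel])
  have h1 : Psi n F g = Psi n F (SpecialLinearGroup.toGL s) * Psi n F (dg d) := by
    rw [hs, ← map_mul, inv_mul_cancel_right]
  rw [h1]
  change fz (flg n F a) (Psi n F (SpecialLinearGroup.toGL s) (Psi n F (dg d) x)) = _
  have h2 : ∀ y, Psi n F (SpecialLinearGroup.toGL s) y = pr s * y * (pr s)⁻¹ := by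
    intro y
    obtain ⟨t, rfl⟩ := pr_surjective y
    rw [Psi_pr, ← map_inv, ← map_mul, ← map_mul]
    congr 1
  rw [h2, fz_conj]
  exact fz_equiv (Psi n F (dg d)) _ _ (fun y => Psi_dg_mem d a y) x

theorem rev_iot_mem (a : Fin n → ℕ) (ha : ∑ i, a i = n) (x : ProjectiveSpecialLinearGroup (Fin n) F) :
    (Psi n F (permGL F n Fin.revPerm) * iot n F) x ∈ flg n F a ↔ x ∈ flg n F (fun i => a (Fin.rev i)) := by
  obtain ⟨s, rfl⟩ := pr_surjective x
  change Psi n F (permGL F n Fin.revPerm) (iot n F (pr s)) ∈ _ ↔ _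
  rw [iot_pr, Psi_pr, mem_flg, mem_flg]
  have h0 : ∀ i j, ((cj (permGL F n Fin.revPerm) (itr s) : SpecialLinearGroup (Fin n) F) : Matrix (Fin n) (Fin n) F) i j =
      ((s⁻¹ : SpecialLinearGroup (Fin n) F) : Matrix (Fin n) (Fin n) F) (Fin.rev j) (Fin.rev i) := by
    intro i j
    rw [coe_cj, coe_itr, ← map_inv, coe_permGL (Fin.revPerm⁻¹ : Equiv.Perm (Fin n)), PEquiv.mul_toMatrix_toPEquiv]
    rw [submatrix_apply, permGL_mul_apply]
    rfl
  rw [← Subgroup.inv_mem_iff (slp n F (fun i => a (Fin.rev i))), mem_slp, mem_slp]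
  constructor
  · intro h i j hij
    have h1 := compLabel_rev a ha i
    have h2 := compLabel_rev a ha j
    have h3 := h (Fin.rev j) (Fin.rev i) (by omega)
    rw [h0, Fin.rev_rev, Fin.rev_rev] at h3
    exact h3
  · intro h i j hij
    rw [h0]
    apply h
    have h1 := compLabel_rev a ha (Fin.rev i)
    have h2 := compLabel_rev a ha (Fin.rev j)
    rw [Fin.rev_rev] at h1 h2
    omega

/-! ### the symmetric group -/

theorem cnt_rev (g : Equiv.Perm (Fin n)) (a : Fin n → ℕ) : H614.cnt g (fun i => a (Fin.rev i)) = H614.cnt g a := by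
  unfold H614.cnt
  refine Finset.card_bij (fun f _ => Fin.rev ∘ f) ?_ ?_ ?_
  · intro f hf
    rw [H614.mem_invSet] at hf ⊢
    refine ⟨by rw [Function.comp_assoc, hf.1], fun j => ?_⟩
    have h1 := hf.2 (Fin.rev j)
    rw [Fin.rev_rev] at h1
    rw [← h1]
    congr 1
    ext x
    simp only [Finset.mem_filter, Finset.mem_univ, true_and, Function.comp_apply]
    exact Fin.rev_eq_iff
  · intro f _ f' _ h
    funext x
    exact Fin.rev_injective (congrFun h x)
  · intro f hf
    rw [H614.mem_invSet] at hf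
    refine ⟨Fin.rev ∘ f, ?_, ?_⟩
    · rw [H614.mem_invSet]
      refine ⟨by rw [Function.comp_assoc, hf.1], fun j => ?_⟩
      rw [← hf.2 (Fin.rev j)]
      congr 1
      ext x
      simp only [Finset.mem_filter, Finset.mem_univ, true_and, Function.comp_apply]
      exact Fin.rev_eq_iff
    · funext x
      exact Fin.rev_rev _

/-- reversal of compositions -/
def rv (a : Cmp n) : Cmp n := ⟨fun i => a.1 (Fin.rev i), by rw [sum_rev, a.2]⟩

theorem fz_young_rev (a : Cmp n) (g : Equiv.Perm (Fin n)) : fz (youngSubgroup (rv a).1) g = fz (youngSubgroup a.1) g := by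
  have h1 : ((fz (youngSubgroup (rv a).1) g : ℤ) : ℂ) = ((fz (youngSubgroup a.1) g : ℤ) : ℂ) := by
    rw [fz_cast, fz_cast, Cfsg.Agent.H139.Unipotent.fixedPointCharacter_young _ (rv a).2,
      Cfsg.Agent.H139.Unipotent.fixedPointCharacter_young _ a.2]
    congr 1
    exact cnt_rev g a.1
  exact_mod_cast h1

theorem T_mapDomain {G : Type u} [Group G] (Q : (Fin n → ℕ) → Subgroup G) (r : Cmp n → Cmp n) {x y : G}
    (h : ∀ a, fz (Q a.1) y = fz (Q (r a).1) x) (c : Cmp n →₀ ℤ) : T Q c y = T Q (Finsupp.mapDomain r c) x := by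
  induction c using Finsupp.induction_linear with
  | zero => rw [Finsupp.mapDomain_zero, map_zero]; rfl
  | add c₁ c₂ h1 h2 => rw [Finsupp.mapDomain_add, map_add, map_add, Pi.add_apply, Pi.add_apply, h1, h2]
  | single a z => rw [Finsupp.mapDomain_single, T_single, T_single, h]

theorem T_rv {G : Type u} [Group G] [Fintype G] {Q : (Fin n → ℕ) → Subgroup G} (hQ : YoungType Q) (c : Cmp n →₀ ℤ) :
    T Q (Finsupp.mapDomain rv c) = T Q c := by
  have h1 : T (fun a : Fin n → ℕ => youngSubgroup a) (Finsupp.mapDomain rv c - c) = 0 := by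
    rw [map_sub, sub_eq_zero]
    funext g
    exact (T_mapDomain _ rv (fun a => (fz_young_rev a g).symm) c).symm
  have h2 := T_eq_zero hQ youngType_young h1
  rwa [map_sub, sub_eq_zero] at h2

/-! ### the invariance -/

/-- **The flag characters with a label are invariant under all automorphisms.** -/
theorem T_aut [Fintype F] (hn : 2 ≤ n) (c : Cmp n →₀ ℤ) (α : MulAut (ProjectiveSpecialLinearGroup (Fin n) F))
    (x : ProjectiveSpecialLinearGroup (Fin n) F) : T (flg n F) c (α x) = T (flg n F) c x := by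
  classical
  have := Fintype.ofFinite (ProjectiveSpecialLinearGroup (Fin n) F)
  have h1 : ∀ (g : GL (Fin n) F) (σ : F ≃+* F) (x : ProjectiveSpecialLinearGroup (Fin n) F) (c : Cmp n →₀ ℤ),
      T (flg n F) c ((Psi n F g * phi n F σ) x) = T (flg n F) c x := by
    intro g σ x c
    have h2 := T_mapDomain (flg n F) id (x := x) (y := (Psi n F g * phi n F σ) x) (fun a => by
      change fz _ (Psi n F g (phi n F σ x)) = fz _ x
      rw [Psi_fz (by omega)]
      exact fz_equiv (phi n F σ) _ _ (fun y => phi_mem σ a.1 y) x) c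
    rwa [Finsupp.mapDomain_id] at h2
  have h2 : ∀ (x : ProjectiveSpecialLinearGroup (Fin n) F) (c : Cmp n →₀ ℤ), T (flg n F) c (iot n F x) = T (flg n F) c x := by
    intro x c
    have h3 := T_mapDomain (flg n F) rv (x := x) (y := iot n F x) (fun a => by
      rw [← Psi_fz (by omega) (permGL F n Fin.revPerm)]
      exact fz_equiv (Psi n F (permGL F n Fin.revPerm) * iot n F) _ _ (fun y => rev_iot_mem a.1 a.2 y) x) c
    rw [h3, T_rv (youngType_flg (by omega))]
  rcases exists_form hn α with ⟨g, σ, rfl⟩ | ⟨-, g, σ, rfl⟩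
  · exact h1 g σ x c
  · change T (flg n F) c ((Psi n F g * phi n F σ) (iot n F x)) = _
    rw [h1, h2]

end Cfsg.Agent.H614.XZ
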